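import Mathlib

set_option autoImplicit false
universe u

open TrivSqZeroExt

namespace Groth.Agent.EmbDefLib.Dual

variable {P : Type u} [CommRing P]

theorem decompose (x : DualNumber P) : x = inl x.fst + inr x.snd :=
  TrivSqZeroExt.ext (by simp) (by simp)

theorem eps_mul (x : DualNumber P) : (DualNumber.eps : DualNumber P) * x = inr x.fst :=
  TrivSqZeroExt.ext (by simp) (by simp)

/-- the ideal of φ -/
noncomputable def idealOf {J : Ideal P} (φ : ↥J →ₗ[P] (P ⧸ J)) : Ideal (DualNumber P) where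
  carrier := {x | ∃ h : x.fst ∈ J, Ideal.Quotient.mk J x.snd = φ ⟨x.fst, h⟩}
  zero_mem' := by
    refine ⟨by simp, ?_⟩
    have e : (⟨(0 : DualNumber P).fst, by simp⟩ : ↥J) = 0 := Subtype.ext (TrivSqZeroExt.fst_zero (R := P) (M := P))
    rw [e, map_zero]; simp
  add_mem' := by
    rintro x y ⟨hx, ex⟩ ⟨hy, ey⟩
    refine ⟨by simpa using J.add_mem hx hy, ?_⟩
    have e : (⟨(x + y).fst, by simpa using J.add_mem hx hy⟩ : ↥J) = ⟨x.fst, hx⟩ + ⟨y.fst, hy⟩ := Subtype.ext (fst_add x y)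
    rw [e, map_add]
    simp [ex, ey]
  smul_mem' := by
    rintro r x ⟨hx, ex⟩
    refine ⟨by simpa using J.mul_mem_left r.fst hx, ?_⟩
    have e : (⟨(r • x).fst, by simpa using J.mul_mem_left r.fst hx⟩ : ↥J) = r.fst • ⟨x.fst, hx⟩ := Subtype.ext (fst_mul r x)
    rw [e, map_smul, ← ex,
      smul_eq_mul, TrivSqZeroExt.snd_mul, Algebra.smul_def (r.fst) (Ideal.Quotient.mk J x.snd), Ideal.Quotient.algebraMap_eq]
    simp [op_smul_eq_smul, Ideal.Quotient.eq_zero_iff_mem.mpr hx]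

theorem mem_idealOf {J : Ideal P} (φ : ↥J →ₗ[P] (P ⧸ J)) (a b : P) :
    (inl a + inr b : DualNumber P) ∈ idealOf φ ↔ ∃ h : a ∈ J, Ideal.Quotient.mk J b = φ ⟨a, h⟩ := by
  show (∃ h : (inl a + inr b : DualNumber P).fst ∈ J, _) ↔ _
  simp

theorem classification (J : Ideal P) :
    (∀ φ : J →ₗ[P] (P ⧸ J), ∃! J' : Ideal (DualNumber P),
        ∀ a b : P, (inl a + inr b : DualNumber P) ∈ J' ↔ ∃ h : a ∈ J, Ideal.Quotient.mk J b = φ ⟨a, h⟩) ∧
    (∀ J' : Ideal (DualNumber P),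
      (J'.map (TrivSqZeroExt.fstHom P P P) = J ∧
        ∀ m : DualNumber P ⧸ J', Ideal.Quotient.mk J' DualNumber.eps * m = 0 →
          ∃ m' : DualNumber P ⧸ J', m = Ideal.Quotient.mk J' DualNumber.eps * m') ↔
      ∃ φ : J →ₗ[P] (P ⧸ J), ∀ a b : P,
        (inl a + inr b : DualNumber P) ∈ J' ↔ ∃ h : a ∈ J, Ideal.Quotient.mk J b = φ ⟨a, h⟩) := by
  classical
  refine ⟨fun φ => ⟨idealOf φ, mem_idealOf φ, fun J' hJ' => ?_⟩, fun J' => ⟨?_, ?_⟩⟩
  · ext x
    rw [decompose x, hJ', mem_idealOf]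
  · rintro ⟨hmap, hflat⟩
    have hfs : Function.Surjective (TrivSqZeroExt.fstHom P P P) := fun a => ⟨inl a, fst_inl P a⟩
    have hfst : ∀ x ∈ J', x.fst ∈ J := fun x hx => hmap ▸ Ideal.mem_map_of_mem _ hx
    have hlift : ∀ a ∈ J, ∃ b, (inl a + inr b : DualNumber P) ∈ J' := by
      intro a ha
      rw [← hmap, Ideal.mem_map_iff_of_surjective _ hfs] at ha
      obtain ⟨x, hx, hxa⟩ := ha
      refine ⟨x.snd, ?_⟩
      rw [show a = x.fst from hxa.symm, ← decompose x]; exact hx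
    have hinr : ∀ c : P, (inr c : DualNumber P) ∈ J' ↔ c ∈ J := by
      intro c
      constructor
      · intro hc
        obtain ⟨m', hm⟩ := hflat (Ideal.Quotient.mk J' (inl c)) (by
          rw [← map_mul, eps_mul, fst_inl]; exact Ideal.Quotient.eq_zero_iff_mem.mpr hc)
        obtain ⟨M, rfl⟩ := Ideal.Quotient.mk_surjective m'
        rw [← map_mul, Ideal.Quotient.eq] at hm
        simpa using hfst _ hm
      · intro hc
        obtain ⟨b, hb⟩ := hlift c hc
        have h := J'.mul_mem_left DualNumber.eps hb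
        rw [eps_mul] at h
        simpa using h
    have hwd : ∀ a b b', (inl a + inr b : DualNumber P) ∈ J' → (inl a + inr b' : DualNumber P) ∈ J' →
        Ideal.Quotient.mk J b = Ideal.Quotient.mk J b' := by
      intro a b b' hb hb'
      have h := J'.sub_mem hb hb'
      rw [show (inl a + inr b : DualNumber P) - (inl a + inr b') = inr (b - b') by rw [inr_sub]; abel] at h
      exact Ideal.Quotient.eq.mpr ((hinr _).mp h)
    choose B hB using hlift
    refine ⟨{ toFun := fun a => Ideal.Quotient.mk J (B a.1 a.2)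
              map_add' := fun a a' => ?_
              map_smul' := fun r a => ?_ }, fun a b => ⟨fun h => ?_, fun h => ?_⟩⟩
    · rw [← map_add]
      refine hwd _ _ (B a.1 a.2 + B a'.1 a'.2) (hB _ (a + a').2) ?_
      have h := J'.add_mem (hB _ a.2) (hB _ a'.2)
      rwa [show (inl a.1 + inr (B a.1 a.2) : DualNumber P) + (inl a'.1 + inr (B a'.1 a'.2)) =
        inl ((a + a' : ↥J) : P) + inr (B a.1 a.2 + B a'.1 a'.2) by rw [Submodule.coe_add, inl_add, inr_add]; abel] at h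
    · rw [RingHom.id_apply, Algebra.smul_def, Ideal.Quotient.algebraMap_eq, ← map_mul]
      refine hwd _ _ (r • B a.1 a.2) (hB _ (r • a).2) ?_
      have h := J'.mul_mem_left (inl r) (hB _ a.2)
      rwa [mul_add, inl_mul_inl, inl_mul_inr] at h
    · have ha : a ∈ J := by simpa using hfst _ h
      exact ⟨ha, hwd a b (B a ha) h (hB a ha)⟩
    · obtain ⟨ha, hb⟩ := h
      have h1 := hB a ha
      have h2 : (inr (b - B a ha) : DualNumber P) ∈ J' := (hinr _).mpr (Ideal.Quotient.eq.mp hb)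
      have h3 := J'.add_mem h1 h2
      rwa [show (inl a + inr (B a ha) : DualNumber P) + inr (b - B a ha) = inl a + inr b by rw [inr_sub]; abel] at h3
  · rintro ⟨φ, hJ'⟩
    have hfs : Function.Surjective (TrivSqZeroExt.fstHom P P P) := fun a => ⟨inl a, fst_inl P a⟩
    refine ⟨le_antisymm (Ideal.map_le_iff_le_comap.mpr fun x hx => ?_) fun a ha => ?_, fun m hm => ?_⟩
    · rw [decompose x, hJ'] at hx; exact hx.1
    · obtain ⟨b, hb⟩ := Ideal.Quotient.mk_surjective (φ ⟨a, ha⟩)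
      exact (Ideal.mem_map_iff_of_surjective _ hfs).mpr ⟨inl a + inr b, (hJ' a b).mpr ⟨ha, hb⟩, by simp⟩
    · obtain ⟨X, rfl⟩ := Ideal.Quotient.mk_surjective m
      rw [← map_mul, eps_mul, Ideal.Quotient.eq_zero_iff_mem] at hm
      obtain ⟨h0m, h0⟩ := (hJ' 0 X.fst).mp (by rwa [inl_zero, zero_add])
      have hj : X.fst ∈ J := by
        rw [← Ideal.Quotient.eq_zero_iff_mem, h0, show (⟨0, h0m⟩ : ↥J) = 0 from rfl, map_zero]
      obtain ⟨b, hb⟩ := Ideal.Quotient.mk_surjective (φ ⟨X.fst, hj⟩)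
      refine ⟨Ideal.Quotient.mk J' (inl (X.snd - b)), ?_⟩
      rw [← map_mul, eps_mul, fst_inl, Ideal.Quotient.eq, inr_sub]
      nth_rewrite 1 [decompose X]
      rw [show (inl X.fst + inr X.snd : DualNumber P) - (inr X.snd - inr b) = inl X.fst + inr b by abel]
      exact (hJ' _ b).mpr ⟨hj, hb⟩

end Groth.Agent.EmbDefLib.Dual
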